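import Cfsg.Agent.H903.FFour.Hyp
import Cfsg.Agent.H357.T6.Asm
import Cfsg.Agent.H520.FC.Final
import Cfsg.Agent.H193.RB.GalCol
import Cfsg.Agent.H210.TC.Ly
import Cfsg.Agent.H777.T6.Defs

/-!
# The rows `F₄(5)`, `F₄(7)`, `F₄(17)` of S2464 and S2452

`row5`, `row7`, `row17` : `Row3` (elements of prime order `(601, 313)`, `(181, 1201)`, `(83233, 41761)`), `t6` : `T6`.
-/

set_option autoImplicit false

open Cfsg Cfsg.Lie Subgroup

namespace Cfsg.Agent.H903.FFour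

open Cfsg.Agent.Characters.Core
open Cfsg.Agent.H653.Sieve
open Cfsg.Agent.H598.F4.Num
open Cfsg.Agent.H210.TC
open Cfsg.Agent.H65.Ore

variable {K : Type} [Field K] [Fintype K]

theorem gen {q r₁ r₂ t n : ℕ} (hq : q = 5 ∨ q = 7 ∨ q = 17) (hqp : q.Prime) (hK : Fintype.card K = q)
    (h200 : 200 ≤ q ^ 4 - q ^ 2 + 1) (hpT : ¬ q ∣ q ^ 4 - q ^ 2 + 1)
    (hr₁ : r₁.Prime) (hr₁T : r₁ ∣ q ^ 4 - q ^ 2 + 1) (hr₁G : ¬ r₁ ^ 2 ∣ ordF q)
    (hr₂ : r₂.Prime) (hr₂e : (q ^ 4 + 1) / 2 = r₂) (hr₂d : r₂ ∣ ordF q) (hr₂G : ¬ r₂ ^ 2 ∣ ordF q)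
    (hcop : (q ^ 4 - q ^ 2 + 1).Coprime r₂) (hq2 : ¬ q ∣ r₂ * 2) (ht : 8 * t + 1 = r₂) (ht13 : 13 ≤ t)
    (hQd : (q = 5 ∧ r₂ = 313 ∧ t = 39) ∨ (q = 7 ∧ r₂ = 1201 ∧ t = 150) ∨ (q = 17 ∧ r₂ = 41761 ∧ t = 5220))
    (hn : (n = 10 ∧ q = 17) ∨ (n = 2 ∧ (q = 5 ∨ q = 7))) (hD : D2 q = H520.FC.d2 q) (h6a : r₁.Coprime 6)
    (h6b : r₂.Coprime 6) : Row3 ↥(chevF4.group K) := by
  have : Fact q.Prime := ⟨hqp⟩
  have hch : CharP K q := charP_of_card_eq_prime hK
  have hsimp := simple (K := K)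
  have hfin : Finite (IrrCharacter ↥(chevF4.group K)) := finite_irr
  have := Fintype.ofFinite (IrrCharacter ↥(chevF4.group K))
  have hcard : Nat.card ↥(chevF4.group K) = ordF q := card_ordF hK
  have hK' : Nat.card K = q := by rw [Nat.card_eq_fintype_card, hK]
  have hlie := lie K q
  obtain ⟨T, -, hab, hT, hc, hw, hone⟩ := T12 (K := K) hq hK
  obtain ⟨Q, W, hQ, hW, hWv, hWsq⟩ := exists_Q (K := K) hQd hK
  obtain ⟨y₁, hy₁, hcy₁⟩ := exists_y (K := K) hq hK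
  rw [hr₂e] at hy₁ hcy₁
  have hr₂G' : ¬ r₂ ^ 2 ∣ Nat.card ↥(chevF4.group K) := by rw [hcard]; exact hr₂G
  have hr₁G' : ¬ r₁ ^ 2 ∣ Nat.card ↥(chevF4.group K) := by rw [hcard]; exact hr₁G
  have hcy : ∀ z : ↥(chevF4.group K), orderOf z = r₂ → ¬ q ∣ Nat.card (centralizer ({z} : Set ↥(chevF4.group K))) := by
    intro z hz
    rw [card_cent_of_order hr₂ hr₂G' hy₁ hz hcy₁]
    exact hq2
  obtain ⟨x, y, hx, hy, h⟩ := H357.T6.Asm.asm (n := n) (D := D2 q) hqp hlie hab hc hw hT h200 hpT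
    (fun χ c hcc => by rcases hone χ c hcc with rfl | rfl | rfl <;> norm_num) hr₁ hr₁T hr₁G' hr₂ hQ hr₂G' hcop
    (fun z hz hz1 => hcy z (by
      have h1 := orderOf_dvd_natCard (⟨z, hz⟩ : Q)
      rw [Subgroup.orderOf_mk, hQ] at h1
      rcases (Nat.dvd_prime hr₂).1 h1 with h2 | h2
      · exact absurd (orderOf_eq_one_iff.1 h2) hz1
      · exact h2)) ht ht13 hW hWv (by rw [hWsq]; push_cast; ring)
    (fun χ => H193.RB.galcol hr₂ (by rw [hcard]; exact hr₂d) hr₂G' hQ hW χ)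
    (fun d hd a b ha hb h1 h2 h3 => by
      rw [fact hqp hK]
      rw [hcard] at hd
      exact hdeg hq hd ha hb h1 (by rw [hr₂e]; exact h2) h3)
    (by
      rcases hn with ⟨hn, -⟩ | ⟨hn, hq'⟩
      · exact Or.inl hn
      · refine Or.inr ⟨hn, fun d hd hdd a b ha hb h1 h2 => ?_⟩
        rw [fact hqp hK]
        rw [hcard] at hd hdd
        exact hneg hq' hd ha hb h1 (by rw [hr₂e]; exact h2) hdd.le)
    (fun g hg hi => by
      have h1 := H520.FC.hcb (K := K) (p := q) (by rw [hK']; exact hq) (c := n)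
        (by rw [hK']; rcases hn with ⟨h1, h2⟩ | ⟨h1, -⟩
            · exact Or.inr ⟨h1, h2⟩
            · exact Or.inl h1) g hg hi
      rw [hK', ← hD] at h1
      omega)
  have hcx : ¬ q ∣ Nat.card (centralizer ({x} : Set ↥(chevF4.group K))) := by
    obtain ⟨x', hx'⟩ := @exists_prime_orderOf_dvd_card' ↥T _ _ r₁ ⟨hr₁⟩ (by rw [hT]; exact hr₁T)
    have hx'' : orderOf (x' : ↥(chevF4.group K)) = r₁ := by rw [orderOf_coe, hx']
    have h1 : Nat.card (centralizer ({(x' : ↥(chevF4.group K))} : Set ↥(chevF4.group K))) = q ^ 4 - q ^ 2 + 1 := by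
      rw [← hT]
      congr 1
      have h2 : centralizer ({(x' : ↥(chevF4.group K))} : Set ↥(chevF4.group K)) = T := by
        apply le_antisymm
        · apply hc _ x'.2
          intro h
          rw [h, orderOf_one] at hx''
          exact hr₁.one_lt.ne hx''
        · intro z hz
          rw [mem_centralizer_singleton_iff]
          exact hab z hz x' x'.2
      rw [h2]
    rw [card_cent_of_order hr₁ hr₁G' hx'' hx h1]
    exact hpT
  have hr12 : r₁ ≠ r₂ := by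
    rintro rfl
    exact (hr₁.coprime_iff_not_dvd.1 hcop.symm) hr₁T
  have hqr₁ : ¬ q ∣ r₁ := fun h => hpT (h.trans hr₁T)
  have hqr₂ : ¬ q ∣ r₂ := fun h => hq2 (h.trans (dvd_mul_right _ _))
  have hx1 : x ≠ 1 := by rintro rfl; rw [orderOf_one] at hx; exact hr₁.one_lt.ne hx
  have hy1 : y ≠ 1 := by rintro rfl; rw [orderOf_one] at hy; exact hr₂.one_lt.ne hy
  refine Row3.of_pair (x := x) (y := y) (by rw [hx]; exact hr₁) (by rw [hx]; exact h6a) (by rw [hy]; exact hr₂)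
    (by rw [hy]; exact h6b) (fun g hg => ?_) ?_ ?_
  · obtain ⟨u, v, e⟩ := h g hg
    exact ⟨u, v, e⟩
  · obtain ⟨u, v, e⟩ := H330.Gow.gow hqp hlie hcx hcx hy1 (by rw [hy]; exact hqr₂)
    exact ⟨u, v, e.symm⟩
  · obtain ⟨u, v, e⟩ := H330.Gow.gow hqp hlie hcx hcx (inv_ne_one.2 hx1) (by rw [orderOf_inv, hx]; exact hqr₁)
    exact ⟨u, v, e.symm⟩

theorem row5 (hK : Fintype.card K = 5) : Row3 ↥(chevF4.group K) :=
  gen (q := 5) (r₁ := 601) (r₂ := 313) (t := 39) (n := 2) (Or.inl rfl) (by norm_num) hK (by norm_num) (by norm_num)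
    (by norm_num) (by norm_num) (by decide +kernel) (by norm_num) (by norm_num) (by decide +kernel) (by decide +kernel)
    (by norm_num) (by norm_num) (by norm_num) (by norm_num) (Or.inl ⟨rfl, rfl, rfl⟩) (Or.inr ⟨rfl, Or.inl rfl⟩)
    (by decide +kernel) (by norm_num) (by norm_num)

theorem row7 (hK : Fintype.card K = 7) : Row3 ↥(chevF4.group K) :=
  gen (q := 7) (r₁ := 181) (r₂ := 1201) (t := 150) (n := 2) (Or.inr (Or.inl rfl)) (by norm_num) hK (by norm_num) (by norm_num)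
    (by norm_num) (by norm_num) (by decide +kernel) (by norm_num) (by norm_num) (by decide +kernel) (by decide +kernel)
    (by norm_num) (by norm_num) (by norm_num) (by norm_num) (Or.inr (Or.inl ⟨rfl, rfl, rfl⟩)) (Or.inr ⟨rfl, Or.inr rfl⟩)
    (by decide +kernel) (by norm_num) (by norm_num)

theorem row17 (hK : Fintype.card K = 17) : Row3 ↥(chevF4.group K) :=
  gen (q := 17) (r₁ := 83233) (r₂ := 41761) (t := 5220) (n := 10) (Or.inr (Or.inr rfl)) (by norm_num) hK (by norm_num)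
    (by norm_num) (by norm_num) (by norm_num) (by decide +kernel) (by norm_num) (by norm_num) (by decide +kernel)
    (by decide +kernel) (by norm_num) (by norm_num) (by norm_num) (by norm_num) (Or.inr (Or.inr ⟨rfl, rfl, rfl⟩))
    (Or.inl ⟨rfl, rfl⟩) (by decide +kernel) (by norm_num) (by norm_num)

/-- the field of helper562's `t6_isoF4_of` -/
theorem t6 (hK : Fintype.card K = 5 ∨ Fintype.card K = 7 ∨ Fintype.card K = 17) : H777.T6.T6 ↥(chevF4.group K) := by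
  rcases hK with h | h | h
  · exact H777.T6.T6.of_row3 (row5 h)
  · exact H777.T6.T6.of_row3 (row7 h)
  · exact H777.T6.T6.of_row3 (row17 h)

end Cfsg.Agent.H903.FFour
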