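import Cfsg.Agent.H903.FFour.Data
import Cfsg.Agent.H180.F43.Gal
import Cfsg.Agent.H598.F4.Num17
import Cfsg.Agent.H598.F4.NumFull

/-!
# `F₄(5)`, `F₄(7)`, `F₄(17)`: the concrete hypotheses (S2464)

* `lie` : the characteristic; `fact` : the exponent `24` of `q` in the order;
* `exists_Q` : a subgroup `Q` of order `(q⁴ + 1) / 2` with its column;
* `hdeg`, `hneg` : the possible degrees.
-/

set_option autoImplicit false

open Cfsg Cfsg.Lie Subgroup

namespace Cfsg.Agent.H903.FFour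

open Cfsg.Agent.Characters.Core
open Cfsg.Agent.H653.Sieve
open Cfsg.Agent.H598.F4.Num

theorem lie (K : Type) [Field K] [Fintype K] (p : ℕ) [CharP K p] : IsLieTypeChar p ↥(chevF4.group K) :=
  Or.inr (Or.inr (Or.inr (Or.inr (Or.inr (Or.inr (Or.inl
    ⟨K, inferInstance, inferInstance, inferInstance, Or.inr (Or.inl ⟨MulEquiv.refl _⟩)⟩))))))

universe u

variable {K : Type u} [Field K] [Fintype K]

theorem card_ordF {q : ℕ} (hK : Fintype.card K = q) : Nat.card ↥(chevF4.group K) = ordF q := S1062.result hK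

theorem fact {q : ℕ} (hq : q.Prime) (hK : Fintype.card K = q) : (Nat.card ↥(chevF4.group K)).factorization q = 24 := by
  have key : ∀ k : ℕ, 0 < k → ¬ q ∣ q ^ k - 1 := by
    intro k hk h
    have h3 : q ∣ q ^ k := dvd_pow_self q hk.ne'
    have h4 : 1 ≤ q ^ k := Nat.one_le_pow _ _ hq.pos
    have h5 : q ∣ q ^ k - (q ^ k - 1) := (Nat.dvd_sub h3 h)
    have h6 : q ^ k - (q ^ k - 1) = 1 := by omega
    rw [h6] at h5
    exact hq.one_lt.ne' (Nat.dvd_one.1 h5)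
  have hM : ¬ q ∣ (q ^ 2 - 1) * (q ^ 6 - 1) * (q ^ 8 - 1) * (q ^ 12 - 1) := by
    intro h
    rcases hq.dvd_mul.1 h with h | h
    · rcases hq.dvd_mul.1 h with h | h
      · rcases hq.dvd_mul.1 h with h | h
        · exact key 2 (by norm_num) h
        · exact key 6 (by norm_num) h
      · exact key 8 (by norm_num) h
    · exact key 12 (by norm_num) h
  have hM0 : (q ^ 2 - 1) * (q ^ 6 - 1) * (q ^ 8 - 1) * (q ^ 12 - 1) ≠ 0 := fun h => hM (h ▸ dvd_zero q)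
  have h1 : Nat.card ↥(chevF4.group K) = q ^ 24 * ((q ^ 2 - 1) * (q ^ 6 - 1) * (q ^ 8 - 1) * (q ^ 12 - 1)) := by
    rw [S1062.result hK]; ring
  rw [h1, Nat.factorization_mul (pow_ne_zero _ hq.ne_zero) hM0, Finsupp.add_apply, hq.factorization_pow,
    Finsupp.single_eq_same, Nat.factorization_eq_zero_of_not_dvd hM, add_zero]

/-- centralizers of the elements of prime order `r ∥ |G|` -/
theorem card_cent_of_order {G : Type*} [Group G] [Finite G] {r n : ℕ} (hr : r.Prime) (hrG : ¬ r ^ 2 ∣ Nat.card G) {y z : G}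
    (hy : orderOf y = r) (hz : orderOf z = r) (hc : Nat.card (centralizer ({y} : Set G)) = n) :
    Nat.card (centralizer ({z} : Set G)) = n := by
  obtain ⟨i, hi, hconj⟩ := H180.F43.exists_isConj_pow hr hrG hy hz
  obtain ⟨g, hg⟩ := isConj_iff.1 hconj
  obtain ⟨m, hm⟩ := exists_pow_eq_self_of_coprime (x := y) (n := i) (by rw [hy]; exact hi)
  rw [← hc]
  symm
  refine Nat.card_congr (Equiv.subtypeEquiv (MulAut.conj g).toEquiv fun a => ?_)
  rw [mem_centralizer_singleton_iff, mem_centralizer_singleton_iff, ← hg]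
  show a * y = y * a ↔ g * a * g⁻¹ * (g * y ^ i * g⁻¹) = g * y ^ i * g⁻¹ * (g * a * g⁻¹)
  constructor
  · intro h
    have h1 : a * y ^ i = y ^ i * a := (Commute.pow_right (show Commute a y from h) i).eq
    calc g * a * g⁻¹ * (g * y ^ i * g⁻¹) = g * (a * y ^ i) * g⁻¹ := by group
      _ = g * (y ^ i * a) * g⁻¹ := by rw [h1]
      _ = g * y ^ i * g⁻¹ * (g * a * g⁻¹) := by group
  · intro h
    have h1 : a * y ^ i = y ^ i * a := by
      calc a * y ^ i = g⁻¹ * (g * a * g⁻¹ * (g * y ^ i * g⁻¹)) * g := by group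
        _ = g⁻¹ * (g * y ^ i * g⁻¹ * (g * a * g⁻¹)) * g := by rw [h]
        _ = y ^ i * a := by group
    have h2 := (Commute.pow_right (show Commute a (y ^ i) from h1) m).eq
    rwa [hm] at h2

/-- the column of the prime `(q⁴ + 1) / 2` -/
theorem exists_Q {q r t : ℕ} (h : (q = 5 ∧ r = 313 ∧ t = 39) ∨ (q = 7 ∧ r = 1201 ∧ t = 150) ∨ (q = 17 ∧ r = 41761 ∧ t = 5220))
    (hK : Fintype.card K = q) [Fintype (IrrCharacter ↥(chevF4.group K))] :
    ∃ (Q : Subgroup ↥(chevF4.group K)) (W : IrrCharacter ↥(chevF4.group K) → ℤ), Nat.card Q = r ∧ IsCol Q 8 W ∧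
      (∀ χ, W χ = 0 ∨ W χ = t ∨ W χ = -t ∨ W χ = 1 ∨ W χ = -1) ∧ ∑ χ, W χ * W χ = 2 * r * t := by
  have := simple (K := K)
  have key : ∀ (r t N : ℕ) (wl : List (ℕ × ℤ)) (y : ↥(chevF4.group K)), r.Prime → Nat.card ↥(chevF4.group K) = N →
      orderOf y = r → Nat.card (centralizer ({y} : Set ↥(chevF4.group K))) = r * 2 → numOK N r 2 8 t wl 0 false = true →
      (∀ v ∈ wl, v.2 = 0 ∨ v.2 = t ∨ v.2 = -t ∨ v.2 = 1 ∨ v.2 = -1) →
      ∃ (Q : Subgroup ↥(chevF4.group K)) (W : IrrCharacter ↥(chevF4.group K) → ℤ), Nat.card Q = r ∧ IsCol Q 8 W ∧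
        (∀ χ, W χ = 0 ∨ W χ = t ∨ W χ = -t ∨ W χ = 1 ∨ W χ = -1) ∧ ∑ χ, W χ * W χ = 2 * r * t := by
    intro r t N wl y hr hN hy hcy hnum hv
    have := Fact.mk hr
    obtain ⟨P, W, hP, -, hcol, hok⟩ := exists_col not_comm hN hy hcy 8 t wl 0 false hnum
    refine ⟨P, W, hP, hcol, fun χ => hv _ (hok.mem χ), ?_⟩
    rw [hok.sq]
    push_cast
    ring
  rcases h with ⟨rfl, rfl, rfl⟩ | ⟨rfl, rfl, rfl⟩ | ⟨rfl, rfl, rfl⟩
  · obtain ⟨y, h1, h2⟩ := exists_y (K := K) (Or.inl rfl) hK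
    exact key 313 39 N5 w52 y (by norm_num) (card5 hK) (by rw [h1]; norm_num) (by rw [h2]; norm_num) num52 (by decide)
  · obtain ⟨y, h1, h2⟩ := exists_y (K := K) (Or.inr (Or.inl rfl)) hK
    exact key 1201 150 N7 w72 y (by norm_num) (card7 hK) (by rw [h1]; norm_num) (by rw [h2]; norm_num) num72 (by decide)
  · obtain ⟨y, h1, h2⟩ := exists_y (K := K) (Or.inr (Or.inr rfl)) hK
    exact key 41761 5220 N17 w172 y (by norm_num) (card17 hK) (by rw [h1]; norm_num) (by rw [h2]; norm_num) num172 (by decide)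

/-- the small degrees -/
theorem hdeg {q : ℕ} (hq : q = 5 ∨ q = 7 ∨ q = 17) {d : ℕ} (hd : d ∣ ordF q) {a b : ℤ} (ha : a = 1 ∨ a = -1)
    (hb : b = 1 ∨ b = -1) (h1 : ((q ^ 4 - q ^ 2 + 1 : ℕ) : ℤ) ∣ (d : ℤ) - a)
    (h2 : (((q ^ 4 + 1) / 2 : ℕ) : ℤ) ∣ (d : ℤ) - b) (hK : d < D2 q) : d = 1 ∨ ∃ k < 24, d = q ^ k := by
  have h3 : D2 q * D2 q ≤ 6 * cenL q := by
    rcases hq with rfl | rfl | rfl <;> decide +kernel
  have h4 : d * d ≤ 6 * cenL q := le_trans (Nat.mul_le_mul hK.le hK.le) h3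
  rcases num hq hd ha hb h1 h2 h4 with h | h | h
  · exact Or.inl h.1
  · exact Or.inr ⟨12, by norm_num, h.1⟩
  · exact absurd h.1 hK.ne

/-- the signs -/
theorem hneg {q : ℕ} (hq : q = 5 ∨ q = 7) {d : ℕ} (hd : d ∣ ordF q) {a b : ℤ} (ha : a = 1 ∨ a = -1)
    (hb : b = 1 ∨ b = -1) (h1 : ((q ^ 4 - q ^ 2 + 1 : ℕ) : ℤ) ∣ (d : ℤ) - a)
    (h2 : (((q ^ 4 + 1) / 2 : ℕ) : ℤ) ∣ (d : ℤ) - b) (hK : d * d ≤ ordF q) : d = 1 ∨ a * b = -1 ∨ q ^ 24 ∣ d := by
  rcases hq with rfl | rfl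
  · rcases num_full_five hd ha hb h1 h2 hK with h | h | h | h | h
    · exact Or.inl h.1
    · exact Or.inr (Or.inl (by rw [h.2.1, h.2.2]; norm_num))
    · exact Or.inr (Or.inl (by rw [h.2.1, h.2.2]; norm_num))
    · exact Or.inr (Or.inl (by rw [h.2.1, h.2.2]; norm_num))
    · exact Or.inr (Or.inr (by rw [h.1]))
  · rcases num_full_seven hd ha hb h1 h2 hK with h | h | h | h | h
    · exact Or.inl h.1
    · exact Or.inr (Or.inl (by rw [h.2.1, h.2.2]; norm_num))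
    · exact Or.inr (Or.inl (by rw [h.2.1, h.2.2]; norm_num))
    · exact Or.inr (Or.inl (by rw [h.2.1, h.2.2]; norm_num))
    · exact Or.inr (Or.inr (by rw [h.1]))

end Cfsg.Agent.H903.FFour
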