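import Cfsg.Agent.H903.FFour.Val
import Cfsg.Agent.Characters.CCBasic

/-!
# Characters constant on the large part of a torus

`A ≤ T` abelian, `C(a) ≤ T` for `1 ≠ a ∈ A`, `[N(T), T] ≤ A`, `r` prime, `r ∣ |A|`, `¬ r² ∣ |G|`, `|N(T) : T| = e`,
`e t = r - 1`, `2 ≤ t`. If `χ` is irreducible with the constant integral value `z` on `A#`, then `z = 0` or `z = ± 1`
(`val_two`).
-/

set_option autoImplicit false

open Cfsg Subgroup
open scoped ComplexConjugate

namespace Cfsg.Agent.H903.FFour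

open Cfsg.Agent.Characters.Core
open Cfsg.Agent.SmallSimple.ThetaSetup Cfsg.Agent.SmallSimple.ThetaOrtho
open Cfsg.Agent.SmallSimple.TheoremC Cfsg.Agent.SmallSimple.TheoremCCor
open Cfsg.Agent.SmallSimple.PrimeDual Cfsg.Agent.SmallSimple.ThetaCount
open Cfsg.Agent.SmallSimple.SingularCount

universe u

variable {G : Type u} [Group G] [Finite G]

theorem part_val {p : ℕ} [hp : Fact p.Prime] {P : Sylow p G} (hP : Nat.card P = p) {e t : ℕ}
    (he : (centralizer ((P : Subgroup G) : Set G)).relIndex (normalizer ((P : Subgroup G) : Set G)) = e)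
    (ht : e * t = p - 1) (ht2 : 2 ≤ t) {K : Subgroup G} (hK : IsComp p (P : Subgroup G) K) {θ : IrrCharacter K}
    {χ : IrrCharacter G} (hθ : χ ∈ Over P (θ : K → ℂ)) {z : ℤ}
    (hpart : ∀ x : (P : Subgroup G), x ≠ 1 → part (θ : K → ℂ) (χ : G → ℂ) x = z) : z = 1 ∨ z = -1 := by
  classical
  have hPf := Fintype.ofFinite (P : Subgroup G)
  obtain ⟨x₀, hx₀, hx₀1⟩ := exists_ne_one (P := (P : Subgroup G)) hP
  set m := (orb P K (θ : K → ℂ)).card with hm
  have hcm := card_stabAct_mul_card_orb hK hP θ.2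
  rw [he, ← hm] at hcm
  set eθ := Nat.card (stabAct hK (θ : K → ℂ)) with heθ
  have het : eθ * (m * t) = p - 1 := by rw [← mul_assoc, hcm, ht]
  have hp2 := hp.out.two_le
  have hm0 : 0 < m := by
    rcases Nat.eq_zero_or_pos m with h | h
    · rw [h, zero_mul, mul_zero] at het
      omega
    · exact h
  have he0 : 0 < eθ := by
    rcases Nat.eq_zero_or_pos eθ with h | h
    · rw [h, zero_mul] at het
      omega
    · exact h
  obtain ⟨NE, X, ε, d, S, hB, -, hNE, hX, hε, hd, hval, hvalX, -, -, -⟩ := theoremC hK hP θ.2 heθ.symm het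
  have hx₀' : (⟨x₀, hx₀⟩ : (P : Subgroup G)) ≠ 1 := fun e => hx₀1 (congrArg Subtype.val e)
  rcases (hB χ).1 hθ with h | h
  · have h1 := hval χ h ⟨x₀, hx₀⟩ hx₀'
    rw [hpart _ hx₀'] at h1
    have h2 : z = ε χ := by exact_mod_cast h1
    rw [h2]
    exact hε χ h
  · exfalso
    obtain ⟨hSc, hS1, -, hSv⟩ := hvalX χ h
    have h2 := SmallSimple.TheoremBCor.sum_exc_off (f := fun x : (P : Subgroup G) => part (θ : K → ℂ) (χ : G → ℂ) x)
      (d := (d : ℂ)) hS1 hSv
    rw [hSc, ← Finset.add_sum_erase _ _ (Finset.mem_univ (1 : (P : Subgroup G))),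
      Finset.sum_congr rfl (g := fun _ => ((z : ℤ) : ℂ)) (fun x hx => hpart x (Finset.mem_erase.1 hx).1),
      Finset.sum_const, Finset.card_erase_of_mem (Finset.mem_univ _), Finset.card_univ, ← Nat.card_eq_fintype_card] at h2
    have hP' : Nat.card (P : Subgroup G) = p := hP
    rw [hP', ← het, nsmul_eq_mul] at h2
    have h3 : ((eθ * (m * t) : ℕ) : ℂ) * ((z : ℤ) : ℂ) = -(d : ℂ) * eθ := by
      linear_combination h2
    have h4 : (eθ : ℤ) * ((m * t) * z) = eθ * (-d) := by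
      have h5 : (((eθ : ℤ) * ((m * t) * z) : ℤ) : ℂ) = ((eθ * (-d) : ℤ) : ℂ) := by
        push_cast at h3 ⊢
        linear_combination h3
      exact_mod_cast h5
    have h5 : ((m : ℤ) * t) * z = -d := mul_left_cancel₀ (by exact_mod_cast he0.ne') h4
    have h6 : ((m : ℤ) * t) ∣ 1 := by
      have h7 : ((m : ℤ) * t) ∣ d := by
        rw [← dvd_neg]
        exact ⟨_, h5.symm⟩
      rcases hd with h8 | h8
      · rwa [h8] at h7
      · rw [h8] at h7
        simpa using h7
    have h7 : (m : ℤ) * t ≤ 1 := Int.le_of_dvd one_pos h6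
    have h8 : (2 : ℤ) ≤ m * t := by
      have h9 : 2 ≤ m * t := le_trans ht2 (Nat.le_mul_of_pos_left t hm0)
      exact_mod_cast h9
    omega

theorem val_two {A T : Subgroup G} (hAT : A ≤ T) (hab : ∀ a ∈ T, ∀ b ∈ T, a * b = b * a)
    (hc : ∀ a ∈ A, a ≠ 1 → centralizer ({a} : Set G) ≤ T)
    (hcom : ∀ n ∈ normalizer (T : Set G), ∀ a ∈ T, n * a * n⁻¹ * a⁻¹ ∈ A) {r : ℕ} (hr : r.Prime)
    (hrA : r ∣ Nat.card A) (hrG : ¬ r ^ 2 ∣ Nat.card G) {e t : ℕ} (hrel : T.relIndex (normalizer (T : Set G)) = e)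
    (ht : e * t = r - 1) (ht2 : 2 ≤ t) (χ : IrrCharacter G) (z : ℤ) (hz : ∀ a ∈ A, a ≠ 1 → (χ : G → ℂ) a = z) :
    z = 0 ∨ z = 1 ∨ z = -1 := by
  classical
  have := Fact.mk hr
  obtain ⟨x', hx'⟩ := exists_prime_orderOf_dvd_card' (G := ↥A) r hrA
  set x : G := (x' : G) with hxdef
  have hxA : x ∈ A := x'.2
  have hx : orderOf x = r := by rw [hxdef, orderOf_coe, hx']
  have hx1 : x ≠ 1 := by
    intro h
    rw [h, orderOf_one] at hx
    exact hr.one_lt.ne hx
  have hCx : centralizer ({x} : Set G) = T := by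
    apply le_antisymm (hc x hxA hx1)
    intro y hy
    rw [mem_centralizer_singleton_iff]
    exact hab y hy x (hAT hxA)
  have hf : (Nat.card G).factorization r = 1 := by
    apply le_antisymm
    · by_contra h
      push Not at h
      exact hrG ((hr.pow_dvd_iff_le_factorization Nat.card_pos.ne').2 h)
    · exact (hr.dvd_iff_one_le_factorization Nat.card_pos.ne').1 (hrA.trans (Subgroup.card_subgroup_dvd_card A))
  have hcz : Nat.card (zpowers x) = r := by rw [Nat.card_zpowers, hx]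
  let Q : Sylow r G := Sylow.ofCard (zpowers x) (by rw [hcz, hf, pow_one])
  have hQ : Nat.card Q = r := hcz
  have hQA : (Q : Subgroup G) ≤ A := zpowers_le.2 hxA
  have hCQ : centralizer ((Q : Subgroup G) : Set G) = T := by
    show centralizer ((zpowers x : Subgroup G) : Set G) = T
    rw [SmallSimple.SelfCentPrime.centralizer_zpowers, hCx]
  have hNN := normalizer_eq hQ hCQ
  have hrel' : (centralizer ((Q : Subgroup G) : Set G)).relIndex (normalizer ((Q : Subgroup G) : Set G)) = e := by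
    rw [hCQ, ← hNN]
    exact hrel
  obtain ⟨K, hK⟩ := exists_isComp Q hQ
  have hKf := Fintype.ofFinite K
  have hKT : ∀ k ∈ K, k ∈ T := fun k hk => hCQ ▸ ((hK k).1 hk).1
  have hKc : ∀ a b : K, a * b = b * a := fun a b => Subtype.ext (hab a (hKT a a.2) b (hKT b b.2))
  by_cases hv : χ ∈ nonzeroOn r G
  swap
  · left
    have h1 := hz x hxA hx1
    have h2 : (χ : G → ℂ) x = 0 := by
      by_contra h3
      exact hv ⟨x, by rw [hx], h3⟩
    rw [h2] at h1
    exact_mod_cast h1.symm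
  obtain ⟨θ, hθ⟩ := exists_mem_Over hK hQ hv
  -- characters trivial on `A ∩ K` are stable
  have hst : ∀ φ : IrrCharacter K, (∀ k : K, (k : G) ∈ A → (φ : K → ℂ) k = 1) →
      ∀ n ∈ normalizer ((Q : Subgroup G) : Set G), tw (φ : K → ℂ) n = φ := by
    intro φ hφ n hn
    funext y
    rw [tw_apply hK _ hn]
    have h1 : n * (y : G) * n⁻¹ * (y : G)⁻¹ ∈ A := hcom n (hNN ▸ hn) y (hKT y y.2)
    have h2 : n * (y : G) * n⁻¹ ∈ K := SmallSimple.ThetaOrtho.conj_mem hK hn y.2
    have h3 : (⟨n * (y : G) * n⁻¹, h2⟩ : K) = ⟨n * (y : G) * n⁻¹ * (y : G)⁻¹, mul_mem h2 (inv_mem y.2)⟩ * y := by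
      apply Subtype.ext
      simp
    rw [h3, Characters.CCBasic.irr_mul_of_comm hKc φ.2, hφ _ h1, one_mul]
  by_cases hθA : ∀ k : K, (k : G) ∈ A → (θ : K → ℂ) k = 1
  · right
    refine part_val hQ hrel' ht ht2 hK hθ fun y hy => ?_
    have h1 := apply_mul_orb hK hQ θ.2 hθ hy (1 : K)
    rw [orb_of_stable θ.2 (hst θ hθA), Finset.sum_singleton] at h1
    have h2 : (θ : K → ℂ) 1 = 1 := hθA 1 (one_mem A)
    have h3 : (χ : G → ℂ) (y : G) = z := hz y (hQA y.2) fun h => hy (Subtype.ext h)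
    simp only [Subgroup.coe_one, mul_one] at h1
    rw [h3] at h1
    rw [h1]
    show _ = part (θ : K → ℂ) (χ : G → ℂ) y * (θ : K → ℂ) 1
    rw [h2, mul_one]
  · left
    -- the mean value over `A ∩ K`
    let A₀ : Subgroup K := A.subgroupOf K
    have hA₀ : ∀ k : K, k ∈ A₀ ↔ (k : G) ∈ A := fun k => Subgroup.mem_subgroupOf
    have hsum : ∀ φ ∈ orb Q K (θ : K → ℂ), ∑ k ∈ Finset.univ.filter (fun k : K => k ∈ A₀), (φ : K → ℂ) k = 0 := by
      intro φ hφ
      have h1 : ∃ k₀ : K, (k₀ : G) ∈ A ∧ (φ : K → ℂ) k₀ ≠ 1 := by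
        by_contra hno
        push Not at hno
        apply hθA
        obtain ⟨n, hn, hnφ⟩ := mem_orb.1 hφ
        have h2 : tw (tw (θ : K → ℂ) n) n⁻¹ = θ := by
          rw [← tw_mul hK _ hn (inv_mem hn), mul_inv_cancel, tw_one]
        rw [hnφ, hst φ hno _ (inv_mem hn)] at h2
        rw [← h2]
        exact hno
      obtain ⟨k₀, hk₀, hne⟩ := h1
      have h2 : ∑ k ∈ Finset.univ.filter (fun k : K => k ∈ A₀), (φ : K → ℂ) (k₀ * k) =
          ∑ k ∈ Finset.univ.filter (fun k : K => k ∈ A₀), (φ : K → ℂ) k := by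
        refine Finset.sum_bij (fun k _ => k₀ * k) ?_ ?_ ?_ ?_
        · intro k hk
          rw [Finset.mem_filter] at hk ⊢
          exact ⟨Finset.mem_univ _, mul_mem ((hA₀ k₀).2 hk₀) hk.2⟩
        · intro a _ b _ h
          exact mul_left_cancel h
        · intro b hb
          rw [Finset.mem_filter] at hb
          exact ⟨k₀⁻¹ * b, Finset.mem_filter.2 ⟨Finset.mem_univ _, mul_mem (inv_mem ((hA₀ k₀).2 hk₀)) hb.2⟩, by group⟩
        · intro a _
          rfl
      rw [Finset.sum_congr rfl fun k _ => Characters.CCBasic.irr_mul_of_comm hKc φ.2 k₀ k, ← Finset.mul_sum] at h2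
      have h3 : ((φ : K → ℂ) k₀ - 1) * ∑ k ∈ Finset.univ.filter (fun k : K => k ∈ A₀), (φ : K → ℂ) k = 0 := by
        linear_combination h2
      exact (mul_eq_zero.1 h3).resolve_left (sub_ne_zero.2 hne)
    have hxQ : (⟨x, mem_zpowers x⟩ : (Q : Subgroup G)) ≠ 1 := fun h => hx1 (congrArg Subtype.val h)
    have h1 : ∑ k ∈ Finset.univ.filter (fun k : K => k ∈ A₀), (χ : G → ℂ) (x * k) = 0 := by
      rw [Finset.sum_congr rfl fun k _ => apply_mul_orb hK hQ θ.2 hθ (x := ⟨x, mem_zpowers x⟩) hxQ k, Finset.sum_comm,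
        Finset.sum_eq_zero]
      intro φ hφ
      rw [← Finset.mul_sum, hsum φ hφ, mul_zero]
    have h2 : ∑ k ∈ Finset.univ.filter (fun k : K => k ∈ A₀), (χ : G → ℂ) (x * k) =
        ∑ _k ∈ Finset.univ.filter (fun k : K => k ∈ A₀), (z : ℂ) := by
      refine Finset.sum_congr rfl fun k hk => ?_
      rw [Finset.mem_filter, hA₀] at hk
      refine hz _ (mul_mem hxA hk.2) fun h => ?_
      have h3 : (k : G) = x⁻¹ := by rw [eq_inv_iff_mul_eq_one, hab k (hKT k k.2) x (hAT hxA), h]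
      apply ((hK k).1 k.2).2
      rw [h3, orderOf_inv, hx]
    rw [h2, Finset.sum_const, nsmul_eq_mul, mul_eq_zero] at h1
    rcases h1 with h1 | h1
    · exfalso
      have h3 : (Finset.univ.filter (fun k : K => k ∈ A₀)).card = 0 := by exact_mod_cast h1
      rw [Finset.card_eq_zero] at h3
      have h4 : (1 : K) ∈ Finset.univ.filter (fun k : K => k ∈ A₀) := Finset.mem_filter.2 ⟨Finset.mem_univ _, one_mem A₀⟩
      rw [h3] at h4
      exact absurd h4 (Finset.notMem_empty _)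
    · exact_mod_cast h1

end Cfsg.Agent.H903.FFour
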