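import Cfsg.Agent.H653.Sieve.Prime

/-!
# Characters constant on the centralizer of a Sylow subgroup of prime order

`P` Sylow of prime order `p`, `e = |N(P) : C(P)|`, `e t = p - 1`, `2 ≤ t`. If the irreducible character `χ` takes the integral
value `c` at all nontrivial elements of `C(P)`, then `c ∈ {0, 1, -1}`.
-/

set_option autoImplicit false

open Cfsg Subgroup
open scoped ComplexConjugate

namespace Cfsg.Agent.H903.FFour

open Cfsg.Agent.Characters.Core
open Cfsg.Agent.SmallSimple.ThetaSetup Cfsg.Agent.SmallSimple.ThetaOrtho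
open Cfsg.Agent.SmallSimple.TheoremC Cfsg.Agent.SmallSimple.TheoremCCor
open Cfsg.Agent.SmallSimple.PrimeDual Cfsg.Agent.SmallSimple.ThetaCount Cfsg.Agent.SmallSimple.SingularCount

universe u

variable {G : Type u} [Group G] [Finite G]

theorem const_val {p : ℕ} [hp : Fact p.Prime] {P : Sylow p G} (hP : Nat.card P = p) {e t : ℕ}
    (he : (centralizer ((P : Subgroup G) : Set G)).relIndex (normalizer ((P : Subgroup G) : Set G)) = e)
    (ht : e * t = p - 1) (ht2 : 2 ≤ t) {χ : IrrCharacter G} {c : ℤ}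
    (hc : ∀ g ∈ centralizer ((P : Subgroup G) : Set G), g ≠ 1 → (χ : G → ℂ) g = c) : c = 0 ∨ c = 1 ∨ c = -1 := by
  classical
  have hPf := Fintype.ofFinite (P : Subgroup G)
  obtain ⟨K, hK⟩ := exists_isComp P hP
  have hKf := Fintype.ofFinite K
  obtain ⟨x₀, hx₀, hx₀1⟩ := exists_ne_one (P := (P : Subgroup G)) hP
  have hle : (P : Subgroup G) ≤ centralizer ((P : Subgroup G) : Set G) :=
    Cfsg.Agent.SmallSimple.ThetaSetup.le_centralizer hP
  by_cases hv : χ ∈ nonzeroOn p G
  swap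
  · left
    have h1 := hc x₀ (hle hx₀) hx₀1
    have h2 : (χ : G → ℂ) x₀ = 0 := by
      by_contra h3
      exact hv ⟨x₀, (Blocks.CyclicOrtho.orderOf_eq P hP hx₀ hx₀1).symm ▸ dvd_refl _, h3⟩
    rw [h2] at h1
    exact_mod_cast h1.symm
  obtain ⟨θ, hθ⟩ := exists_mem_Over hK hP hv
  set m := (orb P K (θ : K → ℂ)).card with hm
  have hcm := card_stabAct_mul_card_orb hK hP θ.2
  rw [he, ← hm] at hcm
  set eθ := Nat.card (stabAct hK (θ : K → ℂ)) with heθ
  have het : eθ * (m * t) = p - 1 := by rw [← mul_assoc, hcm, ht]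
  have hp2 := hp.out.two_le
  have hm0 : 0 < m := by
    rcases Nat.eq_zero_or_pos m with h | h
    · rw [h, zero_mul, mul_zero] at het
      omega
    · exact h
  have he0 : 0 < eθ := by
    rcases Nat.eq_zero_or_pos eθ with h | h
    · rw [h, zero_mul] at het
      omega
    · exact h
  obtain ⟨NE, X, ε, d, S, hB, -, hNE, hX, hε, hd, hval, hvalX, -, -, -⟩ := theoremC hK hP θ.2 heθ.symm het
  obtain ⟨δ, hδ⟩ : ∃ δ : ℤ, (δ = 0 ∨ δ = 1) ∧ (Nat.card K : ℂ)⁻¹ * ∑ y : K, conj ((θ : K → ℂ) y) = δ := by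
    have h1 := classInner_irr (G := K) (χ := fun _ => 1) (ψ := (θ : K → ℂ)) isIrr_one θ.2
    rw [classInner_def] at h1
    simp only [one_mul] at h1
    rw [h1]
    split_ifs
    · exact ⟨1, Or.inr rfl, by simp⟩
    · exact ⟨0, Or.inl rfl, by simp⟩
  have hpart : ∀ x : (P : Subgroup G), x ≠ 1 → part (θ : K → ℂ) (χ : G → ℂ) x = ((c * δ : ℤ) : ℂ) := by
    intro x hx
    rw [part_eq]
    have h1 : ∀ y : K, (χ : G → ℂ) ((x : G) * y) = c := by
      intro y
      apply hc
      · exact mul_mem (hle x.2) ((hK y).1 y.2).1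
      · intro h
        apply hx
        have h2 : (y : G) = (x : G)⁻¹ := by rw [eq_inv_iff_mul_eq_one]; exact (mul_eq_one_iff_eq_inv.1 h ▸ by simp)
        have h3 : ¬ p ∣ orderOf (y : G) := ((hK y).1 y.2).2
        by_contra hx1
        apply h3
        rw [h2, orderOf_inv]
        exact (Blocks.CyclicOrtho.orderOf_eq P hP x.2 (fun e => hx1 (Subtype.ext e))).symm ▸ dvd_refl _
    rw [Finset.sum_congr rfl fun y _ => by rw [h1 y], ← Finset.mul_sum]
    push_cast
    rw [← hδ.2]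
    ring
  have hx₀' : (⟨x₀, hx₀⟩ : (P : Subgroup G)) ≠ 1 := fun e => hx₀1 (congrArg Subtype.val e)
  rcases (hB χ).1 hθ with h | h
  · have h1 := hval χ h ⟨x₀, hx₀⟩ hx₀'
    rw [hpart _ hx₀'] at h1
    have h2 : c * δ = ε χ := by exact_mod_cast h1
    rcases hδ.1 with h3 | h3
    · rw [h3, mul_zero] at h2
      rcases hε χ h with h4 | h4 <;> omega
    · rw [h3, mul_one] at h2
      rw [h2]
      exact Or.inr (hε χ h)
  · exfalso
    obtain ⟨hSc, hS1, -, hSv⟩ := hvalX χ h
    have h2 := SmallSimple.TheoremBCor.sum_exc_off (f := fun x : (P : Subgroup G) => part (θ : K → ℂ) (χ : G → ℂ) x)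
      (d := (d : ℂ)) hS1 hSv
    rw [hSc, ← Finset.add_sum_erase _ _ (Finset.mem_univ (1 : (P : Subgroup G))),
      Finset.sum_congr rfl (g := fun _ => ((c * δ : ℤ) : ℂ)) (fun x hx => hpart x (Finset.mem_erase.1 hx).1),
      Finset.sum_const, Finset.card_erase_of_mem (Finset.mem_univ _), Finset.card_univ, ← Nat.card_eq_fintype_card] at h2
    have hP' : Nat.card (P : Subgroup G) = p := hP
    rw [hP', ← het, nsmul_eq_mul] at h2
    have h3 : ((eθ * (m * t) : ℕ) : ℂ) * ((c * δ : ℤ) : ℂ) = -(d : ℂ) * eθ := by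
      linear_combination h2
    have h4 : (eθ : ℤ) * ((m * t) * (c * δ)) = eθ * (-d) := by
      have h5 : (((eθ : ℤ) * ((m * t) * (c * δ)) : ℤ) : ℂ) = ((eθ * (-d) : ℤ) : ℂ) := by
        push_cast at h3 ⊢
        linear_combination h3
      exact_mod_cast h5
    have h5 : ((m : ℤ) * t) * (c * δ) = -d := mul_left_cancel₀ (by exact_mod_cast he0.ne') h4
    have h6 : ((m : ℤ) * t) ∣ 1 := by
      have h7 : ((m : ℤ) * t) ∣ d := by
        rw [← dvd_neg]
        exact ⟨_, h5.symm⟩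
      rcases hd with h8 | h8
      · rwa [h8] at h7
      · rw [h8] at h7
        simpa using h7
    have h7 : (m : ℤ) * t ≤ 1 := Int.le_of_dvd one_pos h6
    have h8 : (2 : ℤ) ≤ m * t := by
      have h9 : 2 ≤ m * t := le_trans ht2 (Nat.le_mul_of_pos_left t hm0)
      exact_mod_cast h9
    omega

end Cfsg.Agent.H903.FFour
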