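import Cfsg.Agent.H653.Sieve.Col

/-!
# Numerical certificates for `F₄(5)`, `F₄(7)`, `F₄(17)`
-/

set_option autoImplicit false

open Cfsg.Agent.H653.Sieve

namespace Cfsg.Agent.H903.FFour

def N5 : ℕ := 5^24*(5^2-1)*(5^6-1)*(5^8-1)*(5^12-1)
def N7 : ℕ := 7^24*(7^2-1)*(7^6-1)*(7^8-1)*(7^12-1)
def N17 : ℕ := 17^24*(17^2-1)*(17^6-1)*(17^8-1)*(17^12-1)

set_option maxRecDepth 100000

def w51 : List (ℕ × ℤ) := [(0, 0), (1, 50), (600, -50), (12, -1), (589, 1)]
def w52 : List (ℕ × ℤ) := [(0, 0), (1, 39), (312, -39), (8, -1), (305, 1)]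
def w71 : List (ℕ × ℤ) := [(0, 0), (1, 15), (180, -15), (2, 30), (179, -30), (3, 45), (178, -45), (4, 60), (177, -60), (6, 90), (175, -90), (12, 180), (169, -180), (12, -1), (169, 1)]
def w72 : List (ℕ × ℤ) := [(0, 0), (1, 150), (1200, -150), (8, -1), (1193, 1)]
def w171 : List (ℕ × ℤ) := [(0, 0), (1, 6936), (83232, -6936), (12, -1), (83221, 1)]
def w172 : List (ℕ × ℤ) := [(0, 0), (1, 5220), (41760, -5220), (8, -1), (41753, 1)]

theorem num51 : numOK N5 601 1 12 50 w51 0 false = true := by decide +kernel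
theorem num52 : numOK N5 313 2 8 39 w52 0 false = true := by decide +kernel
theorem num71 : numOK N7 181 13 12 15 w71 0 false = true := by decide +kernel
theorem num72 : numOK N7 1201 2 8 150 w72 0 false = true := by decide +kernel
theorem num171 : numOK N17 83233 1 12 6936 w171 0 false = true := by decide +kernel
theorem num172 : numOK N17 41761 2 8 5220 w172 0 false = true := by decide +kernel

end Cfsg.Agent.H903.FFour
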