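import Cfsg.Agent.H653.Sieve.Col
import Cfsg.Agent.H903.FFour.Const

/-!
# Abelian subgroups containing the centralizers of their nontrivial elements

`T` abelian of order `r k`, `r` prime, `r ∥ |G|`, all the centralizers of nontrivial elements in `T`:
`|N(T) : T|` from the numerical conditions (Sylow), and the constant values of the irreducible characters on `T#`.
-/

set_option autoImplicit false

open Cfsg Subgroup
open scoped ComplexConjugate

namespace Cfsg.Agent.H903.FFour

open Cfsg.Agent.Characters.Core
open Cfsg.Agent.H653.Sieve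

universe u

variable {G : Type u} [Group G] [Finite G]

theorem rel_and_val [IsSimpleGroup G] (hG : ¬ IsMulCommutative G) {N : ℕ} (hN : Nat.card G = N) {T : Subgroup G}
    (hab : ∀ a ∈ T, ∀ b ∈ T, a * b = b * a) (hc : ∀ a ∈ T, a ≠ 1 → centralizer ({a} : Set G) ≤ T) {r k : ℕ}
    [hr : Fact r.Prime] (hT : Nat.card T = r * k) {e t : ℕ} {wl : List (ℕ × ℤ)} {c : ℤ} {b : Bool}
    (hnum : numOK N r k e t wl c b = true) :
    T.relIndex (normalizer (T : Set G)) = e ∧
      (2 ≤ t → ∀ (χ : IrrCharacter G) (z : ℤ), (∀ a ∈ T, a ≠ 1 → (χ : G → ℂ) a = z) → z = 0 ∨ z = 1 ∨ z = -1) := by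
  classical
  have hfin : Finite (IrrCharacter G) := finite_irr
  have := Fintype.ofFinite (IrrCharacter G)
  -- an element of order `r`
  obtain ⟨x', hx'⟩ := exists_prime_orderOf_dvd_card' (G := ↥T) r (by rw [hT]; exact dvd_mul_right _ _)
  set x : G := (x' : G) with hxdef
  have hxT : x ∈ T := x'.2
  have hx : orderOf x = r := by rw [hxdef, orderOf_coe, hx']
  have hx1 : x ≠ 1 := by
    intro h
    rw [h, orderOf_one] at hx
    exact hr.out.one_lt.ne hx
  have hCx : centralizer ({x} : Set G) = T := by
    apply le_antisymm (hc x hxT hx1)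
    intro y hy
    rw [mem_centralizer_singleton_iff]
    exact hab y hy x hxT
  have hcx : Nat.card (centralizer ({x} : Set G)) = r * k := by rw [hCx, hT]
  obtain ⟨P, W, hP, he0, hcol, hok⟩ := exists_col hG hN hx hcx e t wl c b hnum
  simp only [numOK, Bool.and_eq_true, bne_iff_ne, beq_iff_eq, ne_eq] at hnum
  obtain ⟨⟨⟨⟨⟨⟨hp2, hN0⟩, hN1⟩, ht⟩, -⟩, -⟩, -⟩ := hnum
  have hk0 : 0 < k := by
    rcases Nat.eq_zero_or_pos k with h | h
    · rw [h, mul_zero] at hT
      exact absurd hT Nat.card_pos.ne'
    · exact h
  -- the order of the normalizer of `P`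
  have hNP : Nat.card (normalizer ((P : Subgroup G) : Set G)) = r * e * k := by
    have h1 := sum_csum_sq hP (P := P)
    have h2 : ∀ χ : IrrCharacter G, csum (P : Subgroup G) (χ : G → ℂ) * conj (csum (P : Subgroup G) (χ : G → ℂ)) =
        (e : ℂ) * e * ((W χ * W χ : ℤ) : ℂ) := by
      intro χ
      rw [← hcol χ]
      simp
      ring
    rw [Finset.sum_congr rfl fun χ _ => h2 χ, ← Finset.mul_sum, ← Int.cast_sum, hok.sq, ← ht] at h1
    have h3 : e * e * (t * r * k) = e * t * Nat.card (normalizer ((P : Subgroup G) : Set G)) := by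
      have h4 : (((e * e * (t * r * k) : ℕ)) : ℂ) =
          ((e * t * Nat.card (normalizer ((P : Subgroup G) : Set G)) : ℕ) : ℂ) := by
        push_cast at h1 ⊢
        linear_combination h1
      exact_mod_cast h4
    have ht0 : t ≠ 0 := by
      rintro rfl
      have := hr.out.two_le
      omega
    have h4 : e * t * (r * e * k) = e * t * Nat.card (normalizer ((P : Subgroup G) : Set G)) := by
      rw [← h3]; ring
    exact (Nat.eq_of_mul_eq_mul_left (Nat.pos_of_ne_zero (mul_ne_zero he0 ht0)) h4).symm
  -- the Sylow subgroup of `x`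
  have hf : (Nat.card G).factorization r = 1 := by
    apply le_antisymm
    · by_contra h
      push Not at h
      have h1 := (hr.out.pow_dvd_iff_le_factorization Nat.card_pos.ne').2 h
      rw [hN] at h1
      exact hN1 (Nat.mod_eq_zero_of_dvd h1)
    · exact (hr.out.dvd_iff_one_le_factorization Nat.card_pos.ne').1 (hN ▸ Nat.dvd_of_mod_eq_zero hN0)
  have hcz : Nat.card (zpowers x) = r := by rw [Nat.card_zpowers, hx]
  let Q : Sylow r G := Sylow.ofCard (zpowers x) (by rw [hcz, hf, pow_one])
  have hQx : (Q : Subgroup G) = zpowers x := rfl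
  have hQ : Nat.card Q = r := hcz
  have hNQ : Nat.card (normalizer ((Q : Subgroup G) : Set G)) = r * e * k := by
    have h1 : (normalizer ((Q : Subgroup G) : Set G)).index = (normalizer ((P : Subgroup G) : Set G)).index := by
      have h2 := Sylow.card_eq_index_normalizer P
      have h3 := Sylow.card_eq_index_normalizer Q
      exact h3.symm.trans h2
    have h2 := Subgroup.card_mul_index (normalizer ((Q : Subgroup G) : Set G))
    have h3 := Subgroup.card_mul_index (normalizer ((P : Subgroup G) : Set G))
    rw [h1, ← h3, hNP] at h2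
    exact Nat.eq_of_mul_eq_mul_right (Nat.pos_of_ne_zero Subgroup.index_ne_zero_of_finite) h2
  have hCQ : centralizer ((Q : Subgroup G) : Set G) = T := by
    rw [hQx, SmallSimple.SelfCentPrime.centralizer_zpowers, hCx]
  -- the normalizers agree
  have hNN : normalizer (T : Set G) = normalizer ((Q : Subgroup G) : Set G) := by
    apply le_antisymm
    · intro g hg
      have h1 : g * x * g⁻¹ ∈ T := (mem_normalizer_iff.1 hg x).1 hxT
      have h2 : orderOf (g * x * g⁻¹) = r := by
        have := orderOf_injective (MulAut.conj g).toMonoidHom (MulAut.conj g).injective x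
        simpa [hx] using this
      have h3 : g * x * g⁻¹ ∈ (Q : Subgroup G) := by
        have h4 : zpowers (g * x * g⁻¹) ≤ normalizer ((Q : Subgroup G) : Set G) := by
          refine le_trans ?_ (centralizer_le_normalizer _)
          rw [hCQ]
          exact zpowers_le.2 h1
        have h5 : IsPGroup r (zpowers (g * x * g⁻¹) ⊔ (Q : Subgroup G) : Subgroup G) :=
          IsPGroup.to_sup_of_normal_right' (IsPGroup.of_card (n := 1) (by rw [Nat.card_zpowers, h2, pow_one])) Q.isPGroup' h4
        have h6 := Q.is_maximal' h5 le_sup_right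
        rw [← h6]
        exact mem_sup_left (mem_zpowers _)
      have h4 : g * x * g⁻¹ ≠ 1 := by
        intro h
        rw [h, orderOf_one] at h2
        exact hr.out.one_lt.ne h2
      exact SmallSimple.ThetaOrtho.mem_normalizer_of_conj (P := Q) hQ (mem_zpowers x) h3 h4 rfl
    · intro g hg
      rw [mem_normalizer_iff]
      have h1 : ∀ g ∈ normalizer ((Q : Subgroup G) : Set G), ∀ a ∈ T, g * a * g⁻¹ ∈ T := by
        intro g hg a ha
        rw [← hCQ] at ha ⊢
        rw [mem_centralizer_iff] at ha ⊢
        intro y hy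
        have h2 : g⁻¹ * y * g ∈ (Q : Subgroup G) := by
          have := (mem_normalizer_iff.1 (inv_mem hg) y).1 hy
          simpa using this
        have h3 := ha _ h2
        have h4 : y * (g * a * g⁻¹) = g * ((g⁻¹ * y * g) * a) * g⁻¹ := by group
        rw [h4, h3]
        group
      intro a
      refine ⟨h1 g hg a, fun ha => ?_⟩
      have h2 := h1 g⁻¹ (inv_mem hg) _ ha
      have h3 : g⁻¹ * (g * a * g⁻¹) * g⁻¹⁻¹ = a := by group
      rwa [h3] at h2
  have hle : T ≤ normalizer (T : Set G) := le_normalizer
  have hrel : T.relIndex (normalizer (T : Set G)) = e := by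
    have h3 := Subgroup.index_mul_card (T.subgroupOf (normalizer (T : Set G)))
    rw [Nat.card_congr (Subgroup.subgroupOfEquivOfLe hle).toEquiv, hT, hNN, hNQ] at h3
    have h4 : 0 < r * k := Nat.mul_pos hr.out.pos hk0
    apply Nat.eq_of_mul_eq_mul_right h4
    rw [Subgroup.relIndex, hNN, h3]; ring
  refine ⟨hrel, fun ht2 χ z hz => ?_⟩
  have hrel' : (centralizer ((Q : Subgroup G) : Set G)).relIndex (normalizer ((Q : Subgroup G) : Set G)) = e := by
    rw [hCQ, ← hNN]
    exact hrel
  exact const_val (P := Q) hQ hrel' ht ht2 (by rw [hCQ]; exact hz)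

end Cfsg.Agent.H903.FFour
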