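import Cfsg.Agent.H798.RowTwC
import Cfsg.Agent.H892.TExcA
import Cfsg.Agent.S1062
import Cfsg.Agent.S1054
import Cfsg.Agent.H903.FFour.Num
import Cfsg.Agent.H903.FFour.Rel

/-!
# Tori of `F₄(5)`, `F₄(7)`, `F₄(17)`

* `exists_T12` : abelian `T` of order `q⁴ - q² + 1` containing the centralizers of its nontrivial elements,
  `|N(T) : T| = 12`, an irreducible character with constant integral value on `T#` has the value `0` or `± 1`;
* `exists_x`, `exists_y` : elements of prime order;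
* `exists_col_y` : the column of the prime `(q⁴ + 1) / 2`.
-/

set_option autoImplicit false

open Cfsg Cfsg.Lie Subgroup

namespace Cfsg.Agent.H903.FFour

open Cfsg.Agent.Characters.Core
open Cfsg.Agent.H653.Sieve

universe u

variable {K : Type u} [Field K] [Fintype K]

theorem simple : IsSimpleGroup ↥(chevF4.group K) := (S1054.result chevF4 (by simp)).1

theorem not_comm : ¬ IsMulCommutative ↥(chevF4.group K) := (S1054.result chevF4 (by simp)).2

theorem card5 (hK : Fintype.card K = 5) : Nat.card ↥(chevF4.group K) = N5 := by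
  rw [S1062.result hK]; rfl

theorem card7 (hK : Fintype.card K = 7) : Nat.card ↥(chevF4.group K) = N7 := by
  rw [S1062.result hK]; rfl

theorem card17 (hK : Fintype.card K = 17) : Nat.card ↥(chevF4.group K) = N17 := by
  rw [S1062.result hK]; rfl

/-- the torus of order `q⁴ - q² + 1` -/
theorem exists_T {q : ℕ} (hK : Fintype.card K = q) : ∃ T : Subgroup ↥(chevF4.group K), IsCyclic ↥T ∧
    (∀ a ∈ T, ∀ b ∈ T, a * b = b * a) ∧ Nat.card ↥T + q ^ 2 = q ^ 4 + 1 ∧
    ∀ a ∈ T, a ≠ 1 → centralizer ({a} : Set ↥(chevF4.group K)) ≤ T := by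
  obtain ⟨T, h1, h2, h3⟩ := H798.RowTw.f4_torus q hK
  refine ⟨T, h1, fun a ha b hb => ?_, h2, fun a ha ha1 => ?_⟩
  · have h := (IsCyclic.isMulCommutative (α := ↥T)).is_comm.comm ⟨a, ha⟩ ⟨b, hb⟩
    exact congrArg Subtype.val h
  · have hn : orderOf a ≠ 1 := fun h => ha1 (orderOf_eq_one_iff.1 h)
    have hr := Nat.minFac_prime hn
    set r := (orderOf a).minFac with hrd
    obtain ⟨m, hm⟩ := Nat.minFac_dvd (orderOf a)
    rw [← hrd] at hm
    have ho : orderOf (a ^ m) = r := by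
      have hpos : 0 < orderOf a := orderOf_pos a
      have hm0 : m ≠ 0 := by
        rintro rfl
        rw [mul_zero] at hm
        omega
      rw [orderOf_pow_of_dvd hm0 ⟨r, by rw [hm]; ring⟩, hm]
      exact Nat.mul_div_cancel _ (Nat.pos_of_ne_zero hm0)
    refine le_trans ?_ (h3 r hr (a ^ m) (T.pow_mem ha m) ho)
    intro g hg
    rw [mem_centralizer_singleton_iff] at hg ⊢
    exact (Commute.pow_right (show Commute g a from hg) m).eq

theorem T12 {q : ℕ} (hq : q = 5 ∨ q = 7 ∨ q = 17) (hK : Fintype.card K = q) :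
    ∃ T : Subgroup ↥(chevF4.group K), IsCyclic ↥T ∧ (∀ a ∈ T, ∀ b ∈ T, a * b = b * a) ∧
      Nat.card ↥T = q ^ 4 - q ^ 2 + 1 ∧ (∀ a ∈ T, a ≠ 1 → centralizer ({a} : Set ↥(chevF4.group K)) ≤ T) ∧
      T.relIndex (normalizer (T : Set ↥(chevF4.group K))) = 12 ∧
      ∀ (χ : IrrCharacter ↥(chevF4.group K)) (z : ℤ),
        (∀ a ∈ T, a ≠ 1 → (χ : ↥(chevF4.group K) → ℂ) a = z) → z = 0 ∨ z = 1 ∨ z = -1 := by
  have := simple (K := K)
  obtain ⟨T, h0, h1, h2, h3⟩ := exists_T hK
  refine ⟨T, h0, h1, ?_, h3, ?_⟩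
  · rcases hq with rfl | rfl | rfl <;> norm_num at h2 ⊢ <;> omega
  · rcases hq with rfl | rfl | rfl
    · have : Fact (Nat.Prime 601) := ⟨by norm_num⟩
      have h := rel_and_val not_comm (card5 hK) h1 h3 (r := 601) (k := 1) (by norm_num at h2 ⊢; omega) num51
      exact ⟨h.1, h.2 (by norm_num)⟩
    · have : Fact (Nat.Prime 181) := ⟨by norm_num⟩
      have h := rel_and_val not_comm (card7 hK) h1 h3 (r := 181) (k := 13) (by norm_num at h2 ⊢; omega) num71
      exact ⟨h.1, h.2 (by norm_num)⟩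
    · have : Fact (Nat.Prime 83233) := ⟨by norm_num⟩
      have h := rel_and_val not_comm (card17 hK) h1 h3 (r := 83233) (k := 1) (by norm_num at h2 ⊢; omega) num171
      exact ⟨h.1, h.2 (by norm_num)⟩

/-- an element of order `(q⁴ + 1) / 2` -/
theorem exists_y {q : ℕ} (hq : q = 5 ∨ q = 7 ∨ q = 17) (hK : Fintype.card K = q) :
    ∃ y : ↥(chevF4.group K), orderOf y = (q ^ 4 + 1) / 2 ∧
      Nat.card (centralizer ({y} : Set ↥(chevF4.group K))) = (q ^ 4 + 1) / 2 * 2 := by
  have key : ∀ r n : ℕ, r.Prime → n = r * 2 → r ≠ 2 → (n : ℤ) = 1 + (q : ℤ) ^ 4 →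
      ∃ y : ↥(chevF4.group K), orderOf y = r ∧ Nat.card (centralizer ({y} : Set ↥(chevF4.group K))) = n := by
    intro r n hr hn hr2 hnq
    obtain ⟨T, h1, h2, h3⟩ := H892.TExc.T_F4_8 (u := q) (N := n) hK hnq (r := r) hr ⟨2, hn⟩ hr2
    have := Fact.mk hr
    obtain ⟨x, hx⟩ := exists_prime_orderOf_dvd_card' (G := ↥T) r (by rw [h2, hn]; exact dvd_mul_right _ _)
    have hx' : orderOf (x : ↥(chevF4.group K)) = r := by rw [orderOf_coe, hx]
    refine ⟨x, hx', ?_⟩
    have h4 : centralizer ({(x : ↥(chevF4.group K))} : Set ↥(chevF4.group K)) = T := by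
      apply le_antisymm (h3 x x.2 hx')
      intro y hy
      rw [mem_centralizer_singleton_iff]
      have h5 := (IsCyclic.isMulCommutative (α := ↥T)).is_comm.comm ⟨y, hy⟩ x
      exact congrArg Subtype.val h5
    rw [h4, h2]
  rcases hq with rfl | rfl | rfl
  · obtain ⟨y, h1, h2⟩ := key 313 626 (by norm_num) (by norm_num) (by norm_num) (by norm_num)
    exact ⟨y, h1, h2⟩
  · obtain ⟨y, h1, h2⟩ := key 1201 2402 (by norm_num) (by norm_num) (by norm_num) (by norm_num)
    exact ⟨y, h1, h2⟩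
  · obtain ⟨y, h1, h2⟩ := key 41761 83522 (by norm_num) (by norm_num) (by norm_num) (by norm_num)
    exact ⟨y, h1, h2⟩

end Cfsg.Agent.H903.FFour
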