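import Cfsg.Agent.H653.Sieve.Col

/-!
# Numerical certificates for `F₄(11)`, `F₄(13)`
-/

set_option autoImplicit false

open Cfsg.Agent.H653.Sieve

namespace Cfsg.Agent.H903.FFour

def N11 : ℕ := 11^24*(11^2-1)*(11^6-1)*(11^8-1)*(11^12-1)
def N13 : ℕ := 13^24*(13^2-1)*(13^6-1)*(13^8-1)*(13^12-1)

set_option maxRecDepth 100000

def w111 : List (ℕ × ℤ) := [(0, 0), (1, 93), (1116, -93), (2, 186), (1115, -186), (3, 279), (1114, -279), (4, 372), (1113, -372), (6, 558), (1111, -558), (12, 1116), (1105, -1116), (12, -1), (1105, 1)]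
def w112 : List (ℕ × ℤ) := [(0, 0), (1, 915), (7320, -915), (8, -1), (7313, 1)]
def w131 : List (ℕ × ℤ) := [(0, 0), (1, 2366), (28392, -2366), (12, -1), (28381, 1)]
def w132 : List (ℕ × ℤ) := [(0, 0), (1, 1785), (14280, -1785), (8, -1), (14273, 1)]

theorem num111 : numOK N11 1117 13 12 93 w111 0 false = true := by decide +kernel
theorem num112 : numOK N11 7321 2 8 915 w112 0 false = true := by decide +kernel
theorem num131 : numOK N13 28393 1 12 2366 w131 0 false = true := by decide +kernel
theorem num132 : numOK N13 14281 2 8 1785 w132 0 false = true := by decide +kernel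

end Cfsg.Agent.H903.FFour
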