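import Cfsg.Agent.H903.FFour.Row
import Cfsg.Agent.H903.FFour.NumB
import Cfsg.Agent.H598.F4.NumOdd
import Cfsg.Agent.H520.FC.Gen

/-!
# The rows `F₄(11)`, `F₄(13)` of S2452

`row11`, `row13` : `Row3` (elements of prime order `(1117, 7321)`, `(28393, 14281)`).
-/

set_option autoImplicit false

open Cfsg Cfsg.Lie Subgroup

namespace Cfsg.Agent.H903.FFour

open Cfsg.Agent.Characters.Core
open Cfsg.Agent.H653.Sieve
open Cfsg.Agent.H598.F4.Num
open Cfsg.Agent.H210.TC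
open Cfsg.Agent.H65.Ore

variable {K : Type} [Field K] [Fintype K]

/-- The engine for `q` prime. -/
theorem genB {q r₁ r₂ t : ℕ} (hqp : q.Prime) (hq5 : 5 ≤ q) (hK : Fintype.card K = q)
    (hT12 : ∃ T : Subgroup ↥(chevF4.group K), (∀ a ∈ T, ∀ b ∈ T, a * b = b * a) ∧
      Nat.card ↥T = q ^ 4 - q ^ 2 + 1 ∧ (∀ a ∈ T, a ≠ 1 → centralizer ({a} : Set ↥(chevF4.group K)) ≤ T) ∧
      T.relIndex (normalizer (T : Set ↥(chevF4.group K))) = 12 ∧
      ∀ (χ : IrrCharacter ↥(chevF4.group K)) (z : ℤ),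
        (∀ a ∈ T, a ≠ 1 → (χ : ↥(chevF4.group K) → ℂ) a = z) → z = 0 ∨ z = 1 ∨ z = -1)
    (hy0 : ∃ y : ↥(chevF4.group K), orderOf y = r₂ ∧ Nat.card (centralizer ({y} : Set ↥(chevF4.group K))) = r₂ * 2)
    {wl : List (ℕ × ℤ)} (hnum : numOK (ordF q) r₂ 2 8 t wl 0 false = true)
    (hwl : ∀ v ∈ wl, v.2 = 0 ∨ v.2 = t ∨ v.2 = -t ∨ v.2 = 1 ∨ v.2 = -1)
    (h200 : 200 ≤ q ^ 4 - q ^ 2 + 1) (hpT : ¬ q ∣ q ^ 4 - q ^ 2 + 1)
    (hr₁ : r₁.Prime) (hr₁T : r₁ ∣ q ^ 4 - q ^ 2 + 1) (hr₁G : ¬ r₁ ^ 2 ∣ ordF q)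
    (hr₂ : r₂.Prime) (hr₂e : (q ^ 4 + 1) / 2 = r₂) (hr₂d : r₂ ∣ ordF q) (hr₂G : ¬ r₂ ^ 2 ∣ ordF q)
    (hcop : (q ^ 4 - q ^ 2 + 1).Coprime r₂) (hq2 : ¬ q ∣ r₂ * 2) (ht : 8 * t + 1 = r₂) (ht13 : 13 ≤ t)
    (hD : D2 q = H520.FC.d2 q) (hD0 : D2 q * D2 q ≤ ordF q)
    (hlist : ∀ {d : ℕ}, d ∣ ordF q → ∀ {a b : ℤ}, (a = 1 ∨ a = -1) → (b = 1 ∨ b = -1) →
      ((q ^ 4 - q ^ 2 + 1 : ℕ) : ℤ) ∣ (d : ℤ) - a → (((q ^ 4 + 1) / 2 : ℕ) : ℤ) ∣ (d : ℤ) - b → d * d ≤ ordF q →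
      (d = 1 ∧ a = 1 ∧ b = 1) ∨ (d = q ^ 12 ∧ a = 1 ∧ b = -1) ∨ (a * b = -1 ∧ D2 q ≤ d) ∨ (d = q ^ 24 ∧ a = 1 ∧ b = 1))
    (hD24 : D2 q ≤ q ^ 24)
    (h6a : r₁.Coprime 6) (h6b : r₂.Coprime 6) : Row3 ↥(chevF4.group K) := by
  have : Fact q.Prime := ⟨hqp⟩
  have hch : CharP K q := charP_of_card_eq_prime hK
  have hsimp := simple (K := K)
  have hfin : Finite (IrrCharacter ↥(chevF4.group K)) := finite_irr
  have := Fintype.ofFinite (IrrCharacter ↥(chevF4.group K))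
  have hcard : Nat.card ↥(chevF4.group K) = ordF q := card_ordF hK
  have hK' : Nat.card K = q := by rw [Nat.card_eq_fintype_card, hK]
  have hlie := lie K q
  obtain ⟨T, hab, hT, hc, hw, hone⟩ := hT12
  obtain ⟨y₁, hy₁, hcy₁⟩ := hy0
  obtain ⟨Q, W, hQ, hW, hWv, hWsq⟩ : ∃ (Q : Subgroup ↥(chevF4.group K)) (W : IrrCharacter ↥(chevF4.group K) → ℤ),
      Nat.card Q = r₂ ∧ IsCol Q 8 W ∧ (∀ χ, W χ = 0 ∨ W χ = t ∨ W χ = -t ∨ W χ = 1 ∨ W χ = -1) ∧
        ∑ χ, W χ * W χ = 2 * r₂ * t := by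
    have := Fact.mk hr₂
    obtain ⟨P, W, hP, -, hcol, hok⟩ := exists_col not_comm hcard hy₁ hcy₁ 8 t wl 0 false hnum
    refine ⟨P, W, hP, hcol, fun χ => hwl _ (hok.mem χ), ?_⟩
    rw [hok.sq]
    push_cast
    ring
  have hr₂G' : ¬ r₂ ^ 2 ∣ Nat.card ↥(chevF4.group K) := by rw [hcard]; exact hr₂G
  have hr₁G' : ¬ r₁ ^ 2 ∣ Nat.card ↥(chevF4.group K) := by rw [hcard]; exact hr₁G
  have hcy : ∀ z : ↥(chevF4.group K), orderOf z = r₂ → ¬ q ∣ Nat.card (centralizer ({z} : Set ↥(chevF4.group K))) := by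
    intro z hz
    rw [card_cent_of_order hr₂ hr₂G' hy₁ hz hcy₁]
    exact hq2
  obtain ⟨x, y, hx, hy, h⟩ := H357.T6.Asm.asm (n := 2) (D := D2 q) hqp hlie hab hc hw hT h200 hpT
    (fun χ c hcc => by rcases hone χ c hcc with rfl | rfl | rfl <;> norm_num) hr₁ hr₁T hr₁G' hr₂ hQ hr₂G' hcop
    (fun z hz hz1 => hcy z (by
      have h1 := orderOf_dvd_natCard (⟨z, hz⟩ : Q)
      rw [Subgroup.orderOf_mk, hQ] at h1
      rcases (Nat.dvd_prime hr₂).1 h1 with h2 | h2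
      · exact absurd (orderOf_eq_one_iff.1 h2) hz1
      · exact h2)) ht ht13 hW hWv (by rw [hWsq]; push_cast; ring)
    (fun χ => H193.RB.galcol hr₂ (by rw [hcard]; exact hr₂d) hr₂G' hQ hW χ)
    (fun d hd a b ha hb h1 h2 h3 => by
      rw [fact hqp hK]
      rw [hcard] at hd
      rcases hlist hd ha hb h1 (by rw [hr₂e]; exact h2) (le_trans (Nat.mul_le_mul h3.le h3.le) hD0) with h | h | h | h
      · exact Or.inl h.1
      · exact Or.inr ⟨12, by norm_num, h.1⟩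
      · exact absurd h.2 (not_le.2 h3)
      · exact absurd (h.1 ▸ hD24) (not_le.2 h3))
    (Or.inr ⟨rfl, fun d hd hdd a b ha hb h1 h2 => by
      rw [fact hqp hK]
      rw [hcard] at hd hdd
      rcases hlist hd ha hb h1 (by rw [hr₂e]; exact h2) hdd.le with h | h | h | h
      · exact Or.inl h.1
      · exact Or.inr (Or.inl (by rw [h.2.1, h.2.2]; norm_num))
      · exact Or.inr (Or.inl h.1)
      · exact Or.inr (Or.inr (by rw [h.1]))⟩)
    (fun g hg hi => by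
      have h1 := H520.FC.hcbg (K := K) (p := q) (by omega) (by rw [hK']; exact hq5) g hg hi
      rw [hK', ← hD] at h1
      omega)
  have hcx : ¬ q ∣ Nat.card (centralizer ({x} : Set ↥(chevF4.group K))) := by
    obtain ⟨x', hx'⟩ := @exists_prime_orderOf_dvd_card' ↥T _ _ r₁ ⟨hr₁⟩ (by rw [hT]; exact hr₁T)
    have hx'' : orderOf (x' : ↥(chevF4.group K)) = r₁ := by rw [orderOf_coe, hx']
    have h1 : Nat.card (centralizer ({(x' : ↥(chevF4.group K))} : Set ↥(chevF4.group K))) = q ^ 4 - q ^ 2 + 1 := by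
      rw [← hT]
      have h2 : centralizer ({(x' : ↥(chevF4.group K))} : Set ↥(chevF4.group K)) = T := by
        apply le_antisymm
        · apply hc _ x'.2
          intro h
          rw [h, orderOf_one] at hx''
          exact hr₁.one_lt.ne hx''
        · intro z hz
          rw [mem_centralizer_singleton_iff]
          exact hab z hz x' x'.2
      rw [h2]
    rw [card_cent_of_order hr₁ hr₁G' hx'' hx h1]
    exact hpT
  have hqr₁ : ¬ q ∣ r₁ := fun h => hpT (h.trans hr₁T)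
  have hqr₂ : ¬ q ∣ r₂ := fun h => hq2 (h.trans (dvd_mul_right _ _))
  have hx1 : x ≠ 1 := by rintro rfl; rw [orderOf_one] at hx; exact hr₁.one_lt.ne hx
  have hy1 : y ≠ 1 := by rintro rfl; rw [orderOf_one] at hy; exact hr₂.one_lt.ne hy
  refine Row3.of_pair (x := x) (y := y) (by rw [hx]; exact hr₁) (by rw [hx]; exact h6a) (by rw [hy]; exact hr₂)
    (by rw [hy]; exact h6b) (fun g hg => ?_) ?_ ?_
  · obtain ⟨u, v, e⟩ := h g hg
    exact ⟨u, v, e⟩
  · obtain ⟨u, v, e⟩ := H330.Gow.gow hqp hlie hcx hcx hy1 (by rw [hy]; exact hqr₂)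
    exact ⟨u, v, e.symm⟩
  · obtain ⟨u, v, e⟩ := H330.Gow.gow hqp hlie hcx hcx (inv_ne_one.2 hx1) (by rw [orderOf_inv, hx]; exact hqr₁)
    exact ⟨u, v, e.symm⟩

/-- an element of prime order `(q⁴ + 1) / 2` -/
theorem exists_yB {q r n : ℕ} (hK : Fintype.card K = q) (hr : r.Prime) (hn : n = r * 2) (hr2 : r ≠ 2)
    (hnq : (n : ℤ) = 1 + (q : ℤ) ^ 4) :
    ∃ y : ↥(chevF4.group K), orderOf y = r ∧ Nat.card (centralizer ({y} : Set ↥(chevF4.group K))) = r * 2 := by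
  obtain ⟨T, h1, h2, h3⟩ := H892.TExc.T_F4_8 (u := q) (N := n) hK hnq (r := r) hr ⟨2, hn⟩ hr2
  have := Fact.mk hr
  obtain ⟨x, hx⟩ := exists_prime_orderOf_dvd_card' (G := ↥T) r (by rw [h2, hn]; exact dvd_mul_right _ _)
  have hx' : orderOf (x : ↥(chevF4.group K)) = r := by rw [orderOf_coe, hx]
  refine ⟨x, hx', ?_⟩
  have h4 : centralizer ({(x : ↥(chevF4.group K))} : Set ↥(chevF4.group K)) = T := by
    apply le_antisymm (h3 x x.2 hx')
    intro y hy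
    rw [mem_centralizer_singleton_iff]
    have h5 := (IsCyclic.isMulCommutative (α := ↥T)).is_comm.comm ⟨y, hy⟩ x
    exact congrArg Subtype.val h5
  rw [h4, h2, hn]

theorem T12B {q r k t : ℕ} {wl : List (ℕ × ℤ)} (hK : Fintype.card K = q) (hr : r.Prime) (hrk : r * k + q ^ 2 = q ^ 4 + 1)
    (hrk' : r * k = q ^ 4 - q ^ 2 + 1) (ht2 : 2 ≤ t) (hnum : numOK (ordF q) r k 12 t wl 0 false = true) :
    ∃ T : Subgroup ↥(chevF4.group K), (∀ a ∈ T, ∀ b ∈ T, a * b = b * a) ∧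
      Nat.card ↥T = q ^ 4 - q ^ 2 + 1 ∧ (∀ a ∈ T, a ≠ 1 → centralizer ({a} : Set ↥(chevF4.group K)) ≤ T) ∧
      T.relIndex (normalizer (T : Set ↥(chevF4.group K))) = 12 ∧
      ∀ (χ : IrrCharacter ↥(chevF4.group K)) (z : ℤ),
        (∀ a ∈ T, a ≠ 1 → (χ : ↥(chevF4.group K) → ℂ) a = z) → z = 0 ∨ z = 1 ∨ z = -1 := by
  have := simple (K := K)
  have := Fact.mk hr
  obtain ⟨T, -, h1, h2, h3⟩ := exists_T hK
  have h4 : Nat.card ↥T = r * k := by omega
  have h := rel_and_val not_comm (card_ordF hK) h1 h3 h4 hnum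
  exact ⟨T, h1, by rw [h4, hrk'], h3, h.1, h.2 ht2⟩

theorem row11 (hK : Fintype.card K = 11) : Row3 ↥(chevF4.group K) :=
  genB (q := 11) (r₁ := 1117) (r₂ := 7321) (t := 915) (by norm_num) (by norm_num) hK
    (T12B (r := 1117) (k := 13) (t := 93) hK (by norm_num) (by norm_num) (by norm_num) (by norm_num) num111)
    (exists_yB (n := 14642) hK (by norm_num) (by norm_num) (by norm_num) (by norm_num)) num112 (by decide)
    (by norm_num) (by norm_num) (by norm_num) (by norm_num) (by decide +kernel) (by norm_num) (by norm_num)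
    (by decide +kernel) (by decide +kernel) (by norm_num) (by norm_num) (by norm_num) (by norm_num)
    (by decide +kernel) (by decide +kernel) (fun hd _ _ ha hb h1 h2 h3 => by
      rcases num_full_list (Or.inr (Or.inl rfl)) hd ha hb h1 h2 h3 with h | h | h | h | h
      · exact Or.inl h
      · exact Or.inr (Or.inl h)
      · exact Or.inr (Or.inr (Or.inl ⟨by rw [h.2.1, h.2.2]; norm_num, h.1.ge⟩))
      · exact Or.inr (Or.inr (Or.inl ⟨by rw [h.2.1, h.2.2]; norm_num, by rw [h.1]; decide +kernel⟩))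
      · exact Or.inr (Or.inr (Or.inr h)))
    (by decide +kernel) (by norm_num) (by norm_num)

theorem row13 (hK : Fintype.card K = 13) : Row3 ↥(chevF4.group K) :=
  genB (q := 13) (r₁ := 28393) (r₂ := 14281) (t := 1785) (by norm_num) (by norm_num) hK
    (T12B (r := 28393) (k := 1) (t := 2366) hK (by norm_num) (by norm_num) (by norm_num) (by norm_num) num131)
    (exists_yB (n := 28562) hK (by norm_num) (by norm_num) (by norm_num) (by norm_num)) num132 (by decide)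
    (by norm_num) (by norm_num) (by norm_num) (by norm_num) (by decide +kernel) (by norm_num) (by norm_num)
    (by decide +kernel) (by decide +kernel) (by norm_num) (by norm_num) (by norm_num) (by norm_num)
    (by decide +kernel) (by decide +kernel) (fun hd _ _ ha hb h1 h2 h3 => by
      rcases num_full_list (Or.inr (Or.inr rfl)) hd ha hb h1 h2 h3 with h | h | h | h | h
      · exact Or.inl h
      · exact Or.inr (Or.inl h)
      · exact Or.inr (Or.inr (Or.inl ⟨by rw [h.2.1, h.2.2]; norm_num, h.1.ge⟩))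
      · exact Or.inr (Or.inr (Or.inl ⟨by rw [h.2.1, h.2.2]; norm_num, by rw [h.1]; decide +kernel⟩))
      · exact Or.inr (Or.inr (Or.inr h)))
    (by decide +kernel) (by norm_num) (by norm_num)

end Cfsg.Agent.H903.FFour
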